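import Cfsg.Agent.Lib.KnownA.MathieuSchur
import Cfsg.Agent.Lib.Golay.Mathieu
import Cfsg.Agent.Lib.KnownA.CertTables

/-!
Certificate for the Schur multiplier of `M21`, kernels of exponent 5.
-/

set_option autoImplicit false
set_option maxRecDepth 100000

namespace CfsgLib.KnownA.M21Schur.Five

open CfsgLib.KnownA.SchurCert CfsgLib.KnownA.SchurCert.Tables CfsgLib.Golay

/-- Table, part 0. -/
def actPart0 : List ℕ := [
  1, 2, 3, 4,
  0]

/-- Table. -/
def act : List (List ℕ) := [actPart0]

/-- Table, part 0. -/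
def mskPart0 : List ℕ := [
  0, 0, 0, 0,
  1]

/-- Table. -/
def msk : List (List ℕ) := [mskPart0]

/-- Table, part 0. -/
def justPart0 : List ℕ := [
  0, 0, 0, 0,
  67108864]

/-- Table. -/
def just : List (List ℕ) := [justPart0]

/-- Table, part 0. -/
def rankPart0 : List ℕ := [
  0, 0, 0, 0,
  1]

/-- Table. -/
def rank : List (List ℕ) := [rankPart0]

/-- Certificate. -/
def cert : Cert (List ℕ) :=
  mkCertT (decList 1) 5 1 5 act msk just rank
    [([0, 0, 0, 0, 0], [])]
    [none] [5]
    []
    [([(1, 4), (2, 3), (3, 2)],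
    [(3, 3, 1), (1, 1, 2), (1, 2, 2)])]
    [[(0, 3)]]

/-- Elements. -/
def codes : List ℕ := [966314410663350928012731855545672736, 978029839594700076676836534601759776]

theorem ok : allOK (modOps 5 1) cert [] X21 codes = true := by decide +kernel

end CfsgLib.KnownA.M21Schur.Five
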